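import Mathlib.RingTheory.Flat.Basic
import Mathlib.FieldTheory.Perfect
import Mathlib.FieldTheory.IsAlgClosed.Basic
import Mathlib.LinearAlgebra.Dimension.Free

/-!
# Separability and reducedness after extension to an algebraically closed field
-/

namespace GrothLib.SepTensor

open Polynomial TensorProduct

universe u

/-- If `K ⊗ A` is reduced for a perfect field extension `K`, integral elements of `A` are separable. -/
theorem isSeparable_of_isReduced_tensor {k A K : Type*} [Field k] [CommRing A] [Algebra k A]
    [Field K] [Algebra k K] [PerfectField K] [IsReduced (K ⊗[k] A)] {x : A} (hx : IsIntegral k x) :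
    IsSeparable k x := by
  set m := minpoly k x
  rw [IsSeparable, ← Polynomial.separable_map (algebraMap k K), PerfectField.separable_iff_squarefree]
  intro q hq
  obtain ⟨r, hr⟩ := hq
  set X' : K ⊗[k] A := 1 ⊗ₜ x
  have hm0 : aeval X' (m.map (algebraMap k K)) = 0 := by
    rw [aeval_map_algebraMap, show X' = Algebra.TensorProduct.includeRight x from rfl,
      aeval_algHom_apply, minpoly.aeval, map_zero]
  have hy : aeval X' (q * r) = 0 := by
    refine IsNilpotent.eq_zero (x := aeval X' (q * r)) ⟨2, ?_⟩
    rw [← map_pow, show (q * r) ^ 2 = m.map (algebraMap k K) * r by rw [hr]; ring, map_mul, hm0,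
      zero_mul]
  have hli : LinearIndependent K fun i : Fin m.natDegree ↦ X' ^ (i : ℕ) := by
    have := Module.Flat.linearIndependent_one_tmul (S := K) (linearIndependent_pow (K := k) x)
    have h2 : (fun i : Fin m.natDegree ↦ X' ^ (i : ℕ)) =
        fun i : Fin m.natDegree ↦ (1 : K) ⊗ₜ[k] (x ^ (i : ℕ)) := funext fun i ↦ by
      simp [X', Algebra.TensorProduct.tmul_pow]
    rw [h2]
    exact this
  have hmne : m.map (algebraMap k K) ≠ 0 := Polynomial.map_ne_zero (minpoly.ne_zero hx)
  have hqr : q * r ≠ 0 := by
    intro h
    rw [hr, mul_assoc, h, mul_zero] at hmne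
    exact hmne rfl
  have hqne : q ≠ 0 := left_ne_zero_of_mul hqr
  by_contra hqu
  have hdq : 0 < q.natDegree := Polynomial.natDegree_pos_iff_degree_pos.mpr
    (Polynomial.degree_pos_of_ne_zero_of_nonunit hqne hqu)
  have hd : (q * r).natDegree < m.natDegree := by
    have : (m.map (algebraMap k K)).natDegree = q.natDegree + (q * r).natDegree := by
      rw [hr, mul_assoc, Polynomial.natDegree_mul hqne hqr]
    rw [Polynomial.natDegree_map] at this
    omega
  apply hqr
  have hsum := hy
  rw [aeval_eq_sum_range' hd, ← Fin.sum_univ_eq_sum_range (fun i ↦ (q * r).coeff i • X' ^ i)] at hsum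
  have hc := Fintype.linearIndependent_iff.mp hli (fun i ↦ (q * r).coeff i) hsum
  ext i
  rw [coeff_zero]
  rcases lt_or_ge i m.natDegree with hi | hi
  · exact hc ⟨i, hi⟩
  · exact coeff_eq_zero_of_natDegree_lt (hd.trans_le hi)

end GrothLib.SepTensor
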